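import Cfsg.Agent.Lib.S3Extra.Frame

/-!
The second type of centraliser has no elementary abelian subgroup of order sixteen.
-/

set_option autoImplicit false
set_option linter.style.haveILetI false

namespace Cfsg.Agent.S2918Id

open Cfsg.Agent.S3Extra

/-- The indices squaring to one. -/
def sqOne : List ℕ := (List.range 192).filter fun i => Nat.beq (T true i i) 0

/-- The span of the central index and two others. -/
def span8 (i j : ℕ) : List ℕ :=
  let ij := T true i j
  [0, 1, i, T true 1 i, j, T true 1 j, ij, T true 1 ij]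

set_option synthInstance.maxSize 4000 in
theorem no_sixteen_chk :
    (sqOne.all fun i => sqOne.all fun j => !(Nat.beq (T true i j) (T true j i)) ||
      sqOne.all fun k => !(Nat.beq (T true i k) (T true k i) && Nat.beq (T true j k) (T true k j)) ||
        (Nat.beq i 0 || Nat.beq i 1 || [0, 1, i, T true 1 i].any (fun v => Nat.beq v j) ||
          (span8 i j).any (fun v => Nat.beq v k))) = true := by
  decide +kernel

variable {G : Type*} [Group G] {P : Gens G}

theorem no_sixteen [Finite G] (F : Frame P true) (E : Subgroup G) (hE : E ≤ Subgroup.centralizer ({P.s} : Set G))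
    (hc : ∀ a ∈ E, ∀ b ∈ E, a * b = b * a) (hsq : ∀ a ∈ E, a * a = 1) : Nat.card E ≠ 16 := by
  classical
  intro hcard
  have idx : ∀ a ∈ E, ∃ i, i < 192 ∧ P.el i = a := fun a ha => by
    obtain ⟨i, hi, he⟩ := (F.mem a).1 (Subgroup.mem_centralizer_singleton_iff.1 (hE ha))
    exact ⟨i, hi, he⟩
  choose! f hf using idx
  set S : Finset G := (Set.toFinite (E : Set G)).toFinset with hSdef
  have hS : ∀ {a}, a ∈ S ↔ a ∈ E := fun {a} => by simp [S]
  have hScard : S.card = 16 := by
    rw [← hcard, hSdef, ← Set.ncard_eq_toFinset_card _ (Set.toFinite _)]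
    exact (Nat.card_coe_set_eq _).symm
  let F' : Finset ℕ := S.image f
  have hF : F'.card = 16 := by
    rw [Finset.card_image_of_injOn, hScard]
    intro a ha b hb e
    rw [← (hf a (hS.1 ha)).2, ← (hf b (hS.1 hb)).2, e]
  have mem : ∀ i ∈ F', i < 192 ∧ P.el i ∈ E := fun i hi => by
    obtain ⟨a, ha, rfl⟩ := Finset.mem_image.1 hi
    exact ⟨(hf a (hS.1 ha)).1, (hf a (hS.1 ha)).2.symm ▸ hS.1 ha⟩
  have comm : ∀ i ∈ F', ∀ j ∈ F', T true i j = T true j i := fun i hi j hj => by
    obtain ⟨hi1, hiE⟩ := mem i hi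
    obtain ⟨hj1, hjE⟩ := mem j hj
    have e1 := F.rels.el_mul (i := i) hj1
    have e2 := F.rels.el_mul (i := j) hi1
    exact F.inj _ e1.2 _ e2.2 (by rw [← e1.1, ← e2.1]; exact hc _ hiE _ hjE)
  have sq : ∀ i ∈ F', i ∈ sqOne := fun i hi => by
    obtain ⟨hi1, hiE⟩ := mem i hi
    have e1 := F.rels.el_mul (i := i) hi1
    refine List.mem_filter.2 ⟨List.mem_range.2 hi1, ?_⟩
    rw [Nat.beq_eq]
    exact F.inj _ e1.2 _ (by norm_num) (by rw [← e1.1, hsq _ hiE, F.rels.el_zero])
  have pick : ∀ L : List ℕ, L.length < 16 → ∃ i ∈ F', i ∉ L := fun L hL => by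
    obtain ⟨i, hi, hiL⟩ := Finset.exists_mem_notMem_of_card_lt_card (s := L.toFinset) (t := F')
      (by rw [hF]; exact (List.toFinset_card_le L).trans_lt hL)
    exact ⟨i, hi, fun h => hiL (List.mem_toFinset.2 h)⟩
  obtain ⟨i, hi, hi'⟩ := pick [0, 1] (by norm_num)
  obtain ⟨j, hj, hj'⟩ := pick [0, 1, i, T true 1 i] (by norm_num)
  obtain ⟨k, hk, hk'⟩ := pick (span8 i j) (by simp [span8])
  have h := List.all_eq_true.1 no_sixteen_chk i (sq i hi)
  have h := List.all_eq_true.1 h j (sq j hj)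
  rw [Bool.or_eq_true, Bool.not_eq_true', ← Bool.not_eq_true, Nat.beq_eq] at h
  have h := List.all_eq_true.1 (h.resolve_left (not_not.2 (comm i hi j hj))) k (sq k hk)
  simp only [Bool.or_eq_true, Bool.not_eq_true', Bool.and_eq_false_iff, List.any_eq_true, Nat.beq_eq] at h
  simp only [List.mem_cons, List.not_mem_nil, or_false, not_or] at hi'
  rcases h with (h | h) | ((h | h) | ⟨v, hv, rfl⟩) | ⟨v, hv, rfl⟩
  · exact absurd (comm i hi k hk) (Nat.ne_of_beq_eq_false h)
  · exact absurd (comm j hj k hk) (Nat.ne_of_beq_eq_false h)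
  · exact hi'.1 h
  · exact hi'.2 h
  · exact hj' hv
  · exact hk' hv

end Cfsg.Agent.S2918Id
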