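import Cfsg.Agent.Lib.S2918Id.PspData

/-!
From the swap to the shape of the centraliser of a central involution of `PSp₄(3)`.
-/

set_option autoImplicit false
set_option linter.style.haveILetI false

namespace Cfsg.Agent.S2918Id

open Subgroup

variable {G : Type*} [Group G] [Finite G] {z u : G} {Q : Subgroup G}

/-- In a group of order eight, two elements incongruent modulo the central pair give all the cosets. -/
theorem coset_cases {R : Subgroup G} (hR : Nat.card R = 8) (hz : z ∈ R) (hzz : z * z = 1) (hz1 : z ≠ 1)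
    {x y : G} (hx : x ∈ R) (hy : y ∈ R) (hcz : ∀ r ∈ R, r * z = z * r) (hx0 : x ≠ 1 ∧ x ≠ z)
    (hy0 : y ≠ 1 ∧ y ≠ z) (hxy : y ≠ x ∧ y ≠ x * z) (hxx : x * x = 1 ∨ x * x = z) {w : G} (hw : w ∈ R) :
    ∃ r ∈ [1, x, y, x * y], w = r ∨ w = r * z := by
  classical
  set K : Finset G := (Set.toFinite (R : Set G)).toFinset
  have hK : ∀ {g : G}, g ∈ K ↔ g ∈ R := fun {g} => by simp [K]
  have hKc : K.card = 8 := by
    rw [← hR, ← Set.ncard_eq_toFinset_card _ (Set.toFinite _)]
    exact (Nat.card_coe_set_eq _).symm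
  set l : List G := [1, z, x, x * z, y, y * z, x * y, x * y * z] with hl
  have a1 : x * z ≠ 1 := fun e => hx0.2 (by
    rw [← mul_inv_cancel_right x z, e, one_mul, inv_eq_of_mul_eq_one_right hzz])
  have a2 : y * z ≠ 1 := fun e => hy0.2 (by
    rw [← mul_inv_cancel_right y z, e, one_mul, inv_eq_of_mul_eq_one_right hzz])
  have a3 : x * z ≠ z := fun e => hx0.1 (mul_eq_right.1 e)
  have a4 : y * z ≠ z := fun e => hy0.1 (mul_eq_right.1 e)
  have a5 : y * z ≠ x := fun e => hxy.2 (by rw [← e, mul_assoc, hzz, mul_one])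
  have a6 : y * z ≠ x * z := fun e => hxy.1 (mul_right_cancel e)
  have a7 : x * y ≠ 1 := fun e => by
    rcases hxx with h | h
    · exact hxy.1 (mul_left_cancel (a := x) (by rw [e, h]))
    · exact hxy.2 (mul_left_cancel (a := x) (by rw [e, ← mul_assoc, h, hzz]))
  have a8 : x * y ≠ z := fun e => by
    rcases hxx with h | h
    · exact hxy.2 (mul_left_cancel (a := x) (by rw [e, ← mul_assoc, h, one_mul]))
    · exact hxy.1 (mul_left_cancel (a := x) (by rw [e, h]))
  have a9 : x * y * z ≠ 1 := fun e => a8 (by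
    rw [← mul_inv_cancel_right (x * y) z, e, one_mul, inv_eq_of_mul_eq_one_right hzz])
  have a10 : x * y * z ≠ z := fun e => a7 (mul_eq_right.1 e)
  have a11 : x * y ≠ x := fun e => hy0.1 (mul_eq_left.1 e)
  have a12 : x * y ≠ x * z := fun e => hy0.2 (mul_left_cancel e)
  have a13 : x * y * z ≠ x := fun e => a2 (mul_eq_left.1 ((mul_assoc x y z).symm.trans e))
  have a14 : x * y * z ≠ x * z := fun e => a11 (mul_right_cancel e)
  have a15 : x * y ≠ y := fun e => hx0.1 (mul_eq_right.1 e)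
  have a16 : x * y ≠ y * z := fun e => hx0.2 (mul_right_cancel (e.trans (hcz y hy)))
  have a17 : x * y * z ≠ y := fun e => a16 (by
    calc x * y = x * y * z * z := by rw [mul_assoc _ z z, hzz, mul_one]
      _ = y * z := by rw [e])
  have a18 : x * y * z ≠ y * z := fun e => a15 (mul_right_cancel e)
  have nd : l.Nodup := by
    simp [hl, hz1, hx0.1, hx0.2, hy0.1, hy0.2, hxy.1, hxy.2, hz1.symm, hx0.1.symm, hx0.2.symm, hy0.1.symm,
      hy0.2.symm, hxy.1.symm, hxy.2.symm, a1.symm, a2.symm, a3.symm, a4.symm, a5.symm, a6.symm, a7.symm,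
      a8.symm, a9.symm, a10.symm, a11.symm, a12.symm, a13.symm, a14.symm, a15.symm, a16.symm, a17.symm, a18.symm]
  have hsub : l.toFinset ⊆ K := fun g hg => hK.2 (by
    rw [List.mem_toFinset] at hg
    simp only [hl, List.mem_cons, List.not_mem_nil, or_false] at hg
    rcases hg with rfl | rfl | rfl | rfl | rfl | rfl | rfl | rfl
    exacts [one_mem _, hz, hx, mul_mem hx hz, hy, mul_mem hy hz, mul_mem hx hy, mul_mem (mul_mem hx hy) hz])
  have heq : l.toFinset = K := Finset.eq_of_subset_of_card_le hsub (by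
    rw [hKc, List.toFinset_card_of_nodup nd, hl]; simp)
  have hw' := hK.2 hw
  rw [← heq, List.mem_toFinset] at hw'
  simp only [hl, List.mem_cons, List.not_mem_nil, or_false] at hw'
  rcases hw' with rfl | rfl | rfl | rfl | rfl | rfl | rfl | rfl
  exacts [⟨1, by simp, Or.inl rfl⟩, ⟨1, by simp, Or.inr (one_mul _).symm⟩, ⟨w, by simp, Or.inl rfl⟩,
    ⟨x, by simp, Or.inr rfl⟩, ⟨w, by simp, Or.inl rfl⟩, ⟨y, by simp, Or.inr rfl⟩, ⟨x * y, by simp, Or.inl rfl⟩,
    ⟨x * y, by simp, Or.inr rfl⟩]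

namespace Swap

variable (S : Swap z Q u)
include S

theorem cube_conj {c : G} (hc3 : c ^ 3 = 1) (p : G) : c * (c * (c * p * c⁻¹) * c⁻¹) * c⁻¹ = p := by
  calc c * (c * (c * p * c⁻¹) * c⁻¹) * c⁻¹ = c * c * c * p * (c * c * c)⁻¹ := by group
    _ = p := by rw [← pow_two, ← pow_succ, hc3]; group

/-- An element of order three without fixed points moves every element modulo the centre. -/
theorem move {R : Subgroup G} {c : G} (hcz : c * z = z * c) (hc3 : c ^ 3 = 1)
    (hfix : ∀ p ∈ R, c * p = p * c → p = 1 ∨ p = z) {p : G} (hp : p ∈ R)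
    (h : c * p * c⁻¹ = p ∨ c * p * c⁻¹ = p * z) : p = 1 ∨ p = z := by
  refine hfix p hp ?_
  rcases h with h | h
  · exact mul_inv_eq_iff_eq_mul.1 h
  · exfalso
    have hcz' : c * z * c⁻¹ = z := by rw [hcz, mul_inv_cancel_right]
    have h3 : p = p * z := by
      calc p = c * (c * (c * p * c⁻¹) * c⁻¹) * c⁻¹ := (S.cube_conj hc3 p).symm
        _ = c * (c * (p * z) * c⁻¹) * c⁻¹ := congrArg (fun y => c * (c * y * c⁻¹) * c⁻¹) h
        _ = c * ((c * p * c⁻¹) * (c * z * c⁻¹)) * c⁻¹ := by group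
        _ = c * (p * (z * z)) * c⁻¹ := by rw [h, hcz', mul_assoc p z z]
        _ = p * z := by rw [S.zz, mul_one, h]
    exact S.z_ne (mul_left_cancel (h3.symm.trans (mul_one p).symm))

/-- A factor is a quaternion group. -/
theorem factor_sq {R R' : Subgroup G} {c : G} (hR : R ≤ Q) (hc8 : Nat.card R = 8) (hzR : z ∈ R)
    (hprod : ∀ x ∈ Q, ∃ a ∈ R, ∃ b ∈ R', a * b = x) (hcomm : ∀ a ∈ R, ∀ b ∈ R', a * b = b * a)
    (hcz : c * z = z * c) (hc3 : c ^ 3 = 1) (hcR : ∀ p ∈ R, c * p * c⁻¹ ∈ R)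
    (hfix : ∀ p ∈ R, c * p = p * c → p = 1 ∨ p = z) {p : G} (hp : p ∈ R) (p1 : p ≠ 1) (pz : p ≠ z) :
    p * p = z := by
  refine (S.sq p (hR hp)).resolve_left fun hpp => ?_
  have hcz' : c * z * c⁻¹ = z := by rw [hcz, mul_inv_cancel_right]
  set q := c * p * c⁻¹ with hq
  have hqR : q ∈ R := hcR p hp
  set r := c * q * c⁻¹ with hr
  have hrR : r ∈ R := hcR q hqR
  have hcr : c * r * c⁻¹ = p := S.cube_conj hc3 p
  have hqq : q * q = 1 := by rw [hq, show c * p * c⁻¹ * (c * p * c⁻¹) = c * (p * p) * c⁻¹ by group, hpp]; group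
  have hrr : r * r = 1 := by rw [hr, show c * q * c⁻¹ * (c * q * c⁻¹) = c * (q * q) * c⁻¹ by group, hqq]; group
  have nq : q ≠ p ∧ q ≠ p * z := ⟨fun e => (S.move hcz hc3 hfix hp (Or.inl e)).elim p1 pz,
    fun e => (S.move hcz hc3 hfix hp (Or.inr e)).elim p1 pz⟩
  have q0 : q ≠ 1 ∧ q ≠ z := by
    refine ⟨fun e => p1 ?_, fun e => pz ?_⟩
    · calc p = c⁻¹ * q * c := by rw [hq]; group
        _ = 1 := by rw [e]; group
    · calc p = c⁻¹ * q * c := by rw [hq]; group
        _ = c⁻¹ * (z * c) := by rw [e]; group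
        _ = z := by rw [← hcz]; group
  have hzc : ∀ r ∈ R, r * z = z * r := fun r h => S.comm_z r (hR h)
  have hall := fun {w : G} (hw : w ∈ R) =>
    coset_cases hc8 hzR S.zz S.z_ne hp hqR hzc ⟨p1, pz⟩ q0 nq (Or.inl hpp) hw
  have hpq : p * q = q * p := by
    refine (S.comm p (hR hp) q (hR hqR)).resolve_right fun h => ?_
    have hsq : p * q * (p * q) = z := by
      calc p * q * (p * q) = q * p * z * (p * q) := by rw [h]
        _ = q * p * (p * q) * z := by rw [mul_assoc (q * p) z, ← hzc _ (mul_mem hp hqR)]; group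
        _ = z := by rw [show q * p * (p * q) = q * (p * p) * q by group, hpp, mul_one, hqq, one_mul]
    obtain ⟨v, hv, e⟩ := hall hrR
    simp only [List.mem_cons, List.not_mem_nil, or_false] at hv
    rcases hv with hv | hv | hv | hv <;> rw [hv] at e <;> rcases e with e | e
    · exact p1 (by rw [← hcr, e]; group)
    · exact pz (by rw [← hcr, e, one_mul, hcz'])
    · exact nq.1 (show c * p * c⁻¹ = p by
        calc c * p * c⁻¹ = c * r * c⁻¹ := by rw [e]
          _ = p := hcr)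
    · exact nq.2 (show c * p * c⁻¹ = p * z by
        calc c * p * c⁻¹ = c * (r * z) * c⁻¹ := by rw [e, mul_assoc p z z, S.zz, mul_one]
          _ = (c * r * c⁻¹) * (c * z * c⁻¹) := by group
          _ = p * z := by rw [hcr, hcz'])
    · exact (S.move hcz hc3 hfix hqR (Or.inl e)).elim q0.1 q0.2
    · exact (S.move hcz hc3 hfix hqR (Or.inr e)).elim q0.1 q0.2
    · rw [e, hsq] at hrr
      exact S.z_ne hrr
    · rw [e, show p * q * z * (p * q * z) = p * q * (z * (p * q)) * z by group,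
        ← hzc _ (mul_mem hp hqR), ← mul_assoc (p * q) (p * q) z, hsq, S.zz, one_mul] at hrr
      exact S.z_ne hrr
  have hcen : ∀ x ∈ Q, x * p = p * x := by
    intro x hx
    obtain ⟨a, ha, b, hb, rfl⟩ := hprod x hx
    have hzp : Commute z p := (hzc p hp).symm
    have hap : Commute a p := by
      obtain ⟨v, hv, e⟩ := hall ha
      have hvp : Commute v p := by
        simp only [List.mem_cons, List.not_mem_nil, or_false] at hv
        rcases hv with rfl | rfl | rfl | rfl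
        exacts [Commute.one_left _, Commute.refl _, (show Commute p q from hpq).symm,
          (Commute.refl p).mul_left (show Commute p q from hpq).symm]
      rcases e with rfl | rfl
      exacts [hvp, hvp.mul_left hzp]
    exact (hap.mul_left (show Commute b p from (hcomm p hp b hb).symm)).eq
  exact (S.center p (hR hp) hcen).elim p1 pz

/-- The shape. -/
theorem exists_shape : ∃ x c s : G, Shape z x c s := by
  classical
  haveI : Fact (Nat.Prime 2) := ⟨Nat.prime_two⟩
  haveI : Fact (Nat.Prime 3) := ⟨Nat.prime_three⟩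
  obtain ⟨Q₁, Q₂, c, d, h1Q, h2Q, hc1, hc2, hmeet, hz1, hz2, hcomm, hprod, hcz, hc3, hcQ2, hcQ1, hcfix, hdz, hd3,
    hdQ2, hdfix⟩ := S.exists_factors
  have hzz : z * z = 1 := S.zz
  have hu : u⁻¹ = u := inv_eq_of_mul_eq_one_right S.u_two
  have huu : ∀ g : G, u * (u * g * u⁻¹) * u⁻¹ = g := fun g => by
    calc u * (u * g * u⁻¹) * u⁻¹ = u * u * g * (u * u)⁻¹ := by group
      _ = g := by rw [S.u_two]; group
  have hsq1 : ∀ p ∈ Q₁, p ≠ 1 → p ≠ z → p * p = z := fun p hp =>
    S.factor_sq h1Q hc1 hz1 hprod hcomm hcz hc3 hcQ1 hcfix hp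
  have hprod' : ∀ x ∈ Q, ∃ a ∈ Q₂, ∃ b ∈ Q₁, a * b = x := fun x hx => by
    obtain ⟨a, ha, b, hb, e⟩ := hprod x hx
    exact ⟨b, hb, a, ha, by rw [← hcomm a ha b hb, e]⟩
  have hsq2 : ∀ p ∈ Q₂, p ≠ 1 → p ≠ z → p * p = z := fun p hp =>
    S.factor_sq h2Q hc2 hz2 hprod' (fun a ha b hb => (hcomm b hb a ha).symm) hdz hd3 hdQ2 hdfix hp
  have hunion : ∀ q ∈ Q, q * q = z → q ∈ Q₁ ∨ q ∈ Q₂ := by
    intro q hq hqq
    obtain ⟨a, ha, b, hb, rfl⟩ := hprod q hq
    by_cases a1 : a = 1 ∨ a = z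
    · refine Or.inr (mul_mem ?_ hb)
      rcases a1 with rfl | rfl
      exacts [one_mem _, hz2]
    by_cases b1 : b = 1 ∨ b = z
    · refine Or.inl (mul_mem ha ?_)
      rcases b1 with rfl | rfl
      exacts [one_mem _, hz1]
    push Not at a1 b1
    exfalso
    have : a * b * (a * b) = 1 := by
      calc a * b * (a * b) = a * (b * a) * b := by group
        _ = a * a * (b * b) := by rw [← hcomm a ha b hb]; group
        _ = 1 := by rw [hsq1 a ha a1.1 a1.2, hsq2 b hb b1.1 b1.2, hzz]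
    rw [this] at hqq
    exact S.z_ne hqq.symm
  have huz : u * z * u⁻¹ = z := by rw [S.u_comm, mul_inv_cancel_right]
  -- the involution exchanges the factors
  set f := (MulAut.conj u).toMonoidHom with hf
  have himg : ∀ p ∈ Q₁, u * p * u⁻¹ ∈ Q₁ ∨ u * p * u⁻¹ ∈ Q₂ := by
    intro p hp
    by_cases p1 : p = 1
    · exact Or.inl (by rw [p1, mul_one, mul_inv_cancel]; exact one_mem _)
    by_cases pz : p = z
    · exact Or.inl (by rw [pz, huz]; exact hz1)
    refine hunion _ (S.norm u S.u_comm p (h1Q hp)) ?_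
    rw [show u * p * u⁻¹ * (u * p * u⁻¹) = u * (p * p) * u⁻¹ by group, hsq1 p hp p1 pz, huz]
  obtain ⟨x, hx, x1, xz⟩ : ∃ x ∈ Q₁, x ≠ 1 ∧ x ≠ z := by
    by_contra hcon
    push Not at hcon
    have hle : Q₁ ≤ zpowers z := fun g hg => by
      by_cases g1 : g = 1
      · rw [g1]; exact one_mem _
      · rw [hcon g hg g1]; exact mem_zpowers z
    have := cle hle
    rw [hc1, Nat.card_zpowers, S.z_two] at this
    omega
  have himg2 : ∀ p ∈ Q₁, u * p * u⁻¹ ∈ Q₂ := by
    by_contra hcon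
    push Not at hcon
    obtain ⟨p0, hp0, hp0'⟩ := hcon
    have h0 : u * p0 * u⁻¹ ∈ Q₁ := (himg p0 hp0).resolve_right hp0'
    have hall : ∀ p ∈ Q₁, u * p * u⁻¹ ∈ Q₁ := fun p hp => by
      refine (himg p hp).elim id fun h2 => ?_
      rcases himg _ (mul_mem hp hp0) with h | h <;>
        rw [show u * (p * p0) * u⁻¹ = (u * p * u⁻¹) * (u * p0 * u⁻¹) by group] at h
      · exact (mul_mem_cancel_right h0).1 h
      · exact absurd ((mul_mem_cancel_left h2).1 h) hp0'
    have hsing : ∀ r ∈ Q₁, r ≠ 1 → r ≠ z → ¬(u * r * u⁻¹ = r ∨ u * r * u⁻¹ = r * z) := fun r hr r1 rz h => by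
      have e := hsq1 r hr r1 rz
      rw [S.sing r (h1Q hr) h] at e
      exact S.z_ne e.symm
    set y := u * x * u⁻¹ with hy
    have hyQ := hall x hx
    have hx2 := hsq1 x hx x1 xz
    have hxinv : x⁻¹ = x * z := inv_eq_of_mul_eq_one_right (by rw [← mul_assoc, hx2, hzz])
    refine hsing (x * y) (mul_mem hx hyQ) (fun e => hsing x hx x1 xz (Or.inr ?_))
      (fun e => hsing x hx x1 xz (Or.inl ?_)) ?_
    · rw [← hy, ← hxinv]
      exact eq_inv_of_mul_eq_one_right e
    · rw [← hy]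
      exact mul_left_cancel (a := x) (by rw [e, hx2])
    · rw [show u * (x * y) * u⁻¹ = (u * x * u⁻¹) * (u * y * u⁻¹) by group, ← hy, hy, huu x]
      rcases S.comm (u * x * u⁻¹) (h1Q hyQ) x (h1Q hx) with h | h
      · exact Or.inl h
      · exact Or.inr h
  have himg1 : ∀ q ∈ Q₂, u * q * u⁻¹ ∈ Q₁ := by
    have hle : Q₁.map f ≤ Q₂ := by
      rintro _ ⟨p, hp, rfl⟩
      exact himg2 p hp
    have heq := eq_of_le_of_card_ge hle (by
      rw [card_map_of_injective (MulAut.conj u).injective, hc1, hc2])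
    intro q hq
    rw [← heq] at hq
    obtain ⟨p, hp, rfl⟩ := hq
    show u * (u * p * u⁻¹) * u⁻¹ ∈ Q₁
    rw [huu]
    exact hp
  -- orient the element of order three
  have hanti : ∀ {a b : G}, a ∈ Q₁ → b ∈ Q₁ → a ≠ 1 → a ≠ z → b ≠ 1 → b ≠ z → b ≠ a → b ≠ a * z →
      a * b = b * a * z := by
    intro a b ha hb a1 az b1 bz ba baz
    refine (S.comm a (h1Q ha) b (h1Q hb)).resolve_left fun h => ?_
    have e := hsq1 (a * b) (mul_mem ha hb) (fun e => baz ?_) fun e => ba ?_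
    · rw [show a * b * (a * b) = a * (b * a) * b by group, ← h,
        show a * (a * b) * b = a * a * (b * b) by group, hsq1 a ha a1 az, hsq1 b hb b1 bz, hzz] at e
      exact S.z_ne e.symm
    · exact mul_left_cancel (a := a) (by rw [e, ← mul_assoc, hsq1 a ha a1 az, hzz])
    · exact mul_left_cancel (a := a) (by rw [e, hsq1 a ha a1 az])
  have hrel1 : ∀ {a b : G}, a ∈ Q₁ → b ∈ Q₁ → a ≠ 1 → a ≠ z → b ≠ 1 → b ≠ z → b ≠ a → b ≠ a * z →
      a * b * a = b := by
    intro a b ha hb a1 az b1 bz ba baz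
    rw [hanti ha hb a1 az b1 bz ba baz, mul_assoc (b * a) z a, ← S.comm_z a (h1Q ha), ← mul_assoc,
      mul_assoc b a a, hsq1 a ha a1 az, mul_assoc, hzz, mul_one]
  set y := c * x * c⁻¹ with hy
  set w := c * y * c⁻¹ with hw
  have hyQ : y ∈ Q₁ := hcQ1 x hx
  have hwQ : w ∈ Q₁ := hcQ1 y hyQ
  have hcw : c * w * c⁻¹ = x := S.cube_conj hc3 x
  have hcz' : c * z * c⁻¹ = z := by rw [hcz, mul_inv_cancel_right]
  have hne : ∀ {g : G}, g ≠ 1 → g ≠ z → c * g * c⁻¹ ≠ 1 ∧ c * g * c⁻¹ ≠ z := fun {g} g1 gz =>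
    ⟨fun e => g1 (by rwa [conj_eq_one_iff] at e), fun e => gz (by
      rw [← hcz'] at e
      exact mul_left_cancel (mul_right_cancel e))⟩
  have y0 : y ≠ 1 ∧ y ≠ z := hne x1 xz
  have w0 : w ≠ 1 ∧ w ≠ z := hne y0.1 y0.2
  have yx : y ≠ x ∧ y ≠ x * z := ⟨fun e => (S.move hcz hc3 hcfix hx (Or.inl e)).elim x1 xz,
    fun e => (S.move hcz hc3 hcfix hx (Or.inr e)).elim x1 xz⟩
  have wy : w ≠ y ∧ w ≠ y * z := ⟨fun e => (S.move hcz hc3 hcfix hyQ (Or.inl e)).elim y0.1 y0.2,
    fun e => (S.move hcz hc3 hcfix hyQ (Or.inr e)).elim y0.1 y0.2⟩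
  have wx : w ≠ x ∧ w ≠ x * z := by
    refine ⟨fun e => yx.1 ?_, fun e => yx.2 ?_⟩
    · rw [hy, ← e, hcw, e]
    · calc y = c * (w * z) * c⁻¹ := by rw [e, mul_assoc x z z, hzz, mul_one]
        _ = (c * w * c⁻¹) * (c * z * c⁻¹) := by group
        _ = x * z := by rw [hcw, hcz']
  obtain ⟨g, hgz, hg3, hgQ2, hg1, hgfix, hr2⟩ : ∃ g : G, g * z = z * g ∧ g ^ 3 = 1 ∧ (∀ q ∈ Q₂, g * q = q * g) ∧
      (∀ p ∈ Q₁, g * p * g⁻¹ ∈ Q₁) ∧ (∀ p ∈ Q₁, g * p = p * g → p = 1 ∨ p = z) ∧
      g * (g * x * g⁻¹) * g⁻¹ = x * (g * x * g⁻¹) := by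
    obtain ⟨v, hv, e⟩ := coset_cases hc1 hz1 hzz S.z_ne hx hyQ (fun r h => S.comm_z r (h1Q h)) ⟨x1, xz⟩ y0 yx
      (Or.inr (hsq1 x hx x1 xz)) hwQ
    simp only [List.mem_cons, List.not_mem_nil, or_false] at hv
    rcases hv with rfl | rfl | rfl | rfl <;> rcases e with e | e
    · exact absurd e w0.1
    · exact absurd (e.trans (one_mul z)) w0.2
    · exact absurd e wx.1
    · exact absurd e wx.2
    · exact absurd e wy.1
    · exact absurd e wy.2
    · exact ⟨c, hcz, hc3, hcQ2, hcQ1, hcfix, e⟩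
    · refine ⟨c⁻¹, (show Commute c z from hcz).inv_left.eq, by rw [inv_pow, hc3, inv_one],
        fun q hq => (show Commute c q from hcQ2 q hq).inv_left.eq, fun p hp => ?_,
        fun p hp h => hcfix p hp ?_, ?_⟩
      · have h2 := hcQ1 _ (hcQ1 p hp)
        rw [inv_inv]
        rwa [show c * (c * p * c⁻¹) * c⁻¹ = c * (c * (c * (c⁻¹ * p * c) * c⁻¹) * c⁻¹) * c⁻¹ by group,
          S.cube_conj hc3] at h2
      · exact ((show Commute c⁻¹ p from h).inv_left).eq |> fun h' => by rwa [inv_inv] at h'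
      · have e1 : c⁻¹ * x * c⁻¹⁻¹ = w := by
          rw [← hcw]; group
        rw [e1, show c⁻¹ * w * c⁻¹⁻¹ = y by rw [hw]; group, e]
        calc y = x * (y * x) := by rw [← mul_assoc, hrel1 hx hyQ x1 xz y0.1 y0.2 yx.1 yx.2]
          _ = x * (x * y * z) := by
            rw [hanti hx hyQ x1 xz y0.1 y0.2 yx.1 yx.2, mul_assoc (y * x) z z, hzz, mul_one]
  set b := g * x * g⁻¹ with hb
  have hbQ : b ∈ Q₁ := hg1 x hx
  have hgz' : g * z * g⁻¹ = z := by rw [hgz, mul_inv_cancel_right]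
  have b1 : b ≠ 1 := fun e => x1 (by rwa [hb, conj_eq_one_iff] at e)
  have bz : b ≠ z := fun e => xz (by
    rw [hb, ← hgz'] at e
    exact mul_left_cancel (mul_right_cancel e))
  have hbx : b ≠ x ∧ b ≠ x * z := ⟨fun e => (S.move hgz hg3 hgfix hx (Or.inl e)).elim x1 xz,
    fun e => (S.move hgz hg3 hgfix hx (Or.inr e)).elim x1 xz⟩
  have hx4 : x ^ 4 = 1 := by
    rw [show (4 : ℕ) = 2 * 2 from rfl, pow_mul, pow_two x, hsq1 x hx x1 xz, pow_two, hzz]
  have hg1' : g ≠ 1 := fun e => hbx.1 (by rw [hb, e, one_mul, inv_one, mul_one])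
  have hord : orderOf g = 3 := orderOf_eq_prime hg3 hg1'
  set K := closure ({x, g} : Set G)
  have hQ1K : Q₁ ≤ K := fun p hp => by
    have hxK : x ∈ K := subset_closure (by simp)
    have hgK : g ∈ K := subset_closure (by simp)
    have hbK : b ∈ K := mul_mem (mul_mem hgK hxK) (inv_mem hgK)
    have hzK : z ∈ K := by rw [← hsq1 x hx x1 xz]; exact mul_mem hxK hxK
    obtain ⟨v, hv, e⟩ := coset_cases hc1 hz1 hzz S.z_ne hx hbQ (fun r h => S.comm_z r (h1Q h)) ⟨x1, xz⟩ ⟨b1, bz⟩ hbx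
      (Or.inr (hsq1 x hx x1 xz)) hp
    have hvK : v ∈ K := by
      simp only [List.mem_cons, List.not_mem_nil, or_false] at hv
      rcases hv with rfl | rfl | rfl | rfl
      exacts [one_mem _, hxK, hbK, mul_mem hxK hbK]
    rcases e with rfl | rfl
    exacts [hvK, mul_mem hvK hzK]
  set g' := u * g * u⁻¹ with hg'
  have hgu : Commute g g' := by
    set k := g * g' * g⁻¹ * g'⁻¹ with hk
    have hg'z : Commute g' z := ((show Commute u z from S.u_comm).mul_left hgz).mul_left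
      (show Commute u z from S.u_comm).inv_left
    have hkz : Commute k z :=
      (((show Commute g z from hgz).mul_left hg'z).mul_left (show Commute g z from hgz).inv_left).mul_left
        hg'z.inv_left
    -- `g` fixes the second factor, `g'` the first
    have g'1 : ∀ p ∈ Q₁, Commute g' p := fun p hp => by
      have h := (show Commute g (u * p * u⁻¹) from hgQ2 _ (himg2 p hp)).map (MulAut.conj u).toMonoidHom
      simpa [MulAut.conj_apply, huu] using h
    have g'2 : ∀ q ∈ Q₂, g' * q * g'⁻¹ ∈ Q₂ ∧ g'⁻¹ * q * g' ∈ Q₂ := fun q hq => by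
      have hq1 := himg1 q hq
      refine ⟨?_, ?_⟩
      · have := himg2 _ (hg1 _ hq1)
        rwa [show u * (g * (u * q * u⁻¹) * g⁻¹) * u⁻¹ = (u * g * u⁻¹) * (u * (u * q * u⁻¹) * u⁻¹) *
          (u * g * u⁻¹)⁻¹ by group, huu] at this
      · have hinv : g⁻¹ = g * g := inv_eq_of_mul_eq_one_right (by rw [← mul_assoc, ← pow_two, ← pow_succ, hg3])
        have := himg2 _ (hg1 _ (hg1 _ hq1))
        rw [show g * (g * (u * q * u⁻¹) * g⁻¹) * g⁻¹ = (g * g) * (u * q * u⁻¹) * (g * g)⁻¹ by group, ← hinv,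
          inv_inv, show u * (g⁻¹ * (u * q * u⁻¹) * g) * u⁻¹ = (u * g * u⁻¹)⁻¹ * (u * (u * q * u⁻¹) * u⁻¹) *
          (u * g * u⁻¹) by group, huu] at this
        exact this
    have hk1 : ∀ p ∈ Q₁, Commute k p := fun p hp => by
      refine mul_inv_eq_iff_eq_mul.1 ?_
      have a1 : g⁻¹ * p * g ∈ Q₁ := by
        have hinv : g⁻¹ = g * g := inv_eq_of_mul_eq_one_right (by rw [← mul_assoc, ← pow_two, ← pow_succ, hg3])
        have := hg1 _ (hg1 p hp)
        rwa [show g * (g * p * g⁻¹) * g⁻¹ = (g * g) * p * (g * g)⁻¹ by group, ← hinv, inv_inv] at this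
      calc k * p * k⁻¹ = g * (g' * (g⁻¹ * (g'⁻¹ * p * g') * g) * g'⁻¹) * g⁻¹ := by rw [hk]; group
        _ = g * (g' * (g⁻¹ * p * g) * g'⁻¹) * g⁻¹ := by rw [mul_assoc g'⁻¹, ← (g'1 p hp).eq, inv_mul_cancel_left]
        _ = g * (g⁻¹ * p * g) * g⁻¹ := by rw [(g'1 _ a1).eq, mul_inv_cancel_right]
        _ = p := by group
    have hk2 : ∀ q ∈ Q₂, Commute k q := fun q hq => by
      refine mul_inv_eq_iff_eq_mul.1 ?_
      calc k * q * k⁻¹ = g * (g' * (g⁻¹ * (g'⁻¹ * q * g') * g) * g'⁻¹) * g⁻¹ := by rw [hk]; group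
        _ = g * (g' * (g'⁻¹ * q * g') * g'⁻¹) * g⁻¹ := by
          rw [mul_assoc g⁻¹ (g'⁻¹ * q * g') g, ← hgQ2 _ (g'2 q hq).2, inv_mul_cancel_left]
        _ = g * q * g⁻¹ := by group
        _ = q := by rw [hgQ2 q hq, mul_inv_cancel_right]
    have hkQ : ∀ q ∈ Q, k * q = q * k := fun q hq => by
      obtain ⟨p, hp, r, hr, rfl⟩ := hprod q hq
      exact ((hk1 p hp).mul_right (hk2 r hr)).eq
    rcases S.center k (S.self k hkz.eq hkQ) fun q hq => (hkQ q hq).symm with h | h
    · exact mul_inv_eq_iff_eq_mul.1 (mul_inv_eq_one.1 h)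
    · exfalso
      have hconj : g * g' * g⁻¹ = z * g' := mul_inv_eq_iff_eq_mul.1 h
      have hg'3 : g' ^ 3 = 1 := by rw [hg', conj_pow, hg3]; group
      have : (g * g' * g⁻¹) ^ 3 = 1 := by rw [conj_pow, hg'3]; group
      rw [hconj, hg'z.symm.mul_pow, hg'3, mul_one, pow_succ, pow_two, hzz, one_mul] at this
      exact S.z_ne this
  refine ⟨x, g, u, S.z_two, hsq1 x hx x1 xz, hx4, hg3, hrel1 hx hbQ x1 xz b1 bz hbx.1 hbx.2, hr2, ?_, S.u_two, ?_,
    S.card_cent, S.comm_z x (h1Q hx), hgz, S.u_comm, ?_, ?_⟩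
  · refine le_card_of_dvd (H := K) (n := 8) (m := 3) ?_ ?_ (by norm_num)
    · rw [← hc1]; exact card_dvd_of_le hQ1K
    · rw [← hord]; exact Subgroup.orderOf_dvd_natCard K (subset_closure (by simp))
  · have cxx : Commute x (u * x * u⁻¹) := hcomm x hx _ (himg2 x hx)
    have cgx : Commute g (u * x * u⁻¹) := hgQ2 _ (himg2 x hx)
    have cxg : Commute x g' := by
      have h := cgx.symm.map (MulAut.conj u).toMonoidHom
      simpa [MulAut.conj_apply, huu] using h
    intro a ha b' hb'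
    rcases ha with rfl | rfl <;> rcases hb' with rfl | rfl
    exacts [cxx, cxg, cgx, hgu]
  · set T := closure ({x, g, u} : Set G)
    have h1T : Q₁ ≤ T := hQ1K.trans (closure_mono (by intro a ha; rcases ha with rfl | rfl <;> simp))
    have huT : u ∈ T := subset_closure (by simp)
    have h2T : Q₂ ≤ T := fun q hq => by
      rw [← huu q]
      exact mul_mem (mul_mem huT (h1T (himg1 q hq))) (inv_mem huT)
    have hQT : Q ≤ T := fun q hq => by
      obtain ⟨p, hp, r, hr, rfl⟩ := hprod q hq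
      exact mul_mem (h1T hp) (h2T hr)
    set D := Q ⊔ zpowers u
    have hD : IsPGroup 2 D := IsPGroup.to_sup_of_normal_left'
      (IsPGroup.of_card (n := 5) (by rw [S.card_Q]; norm_num))
      (IsPGroup.of_card (n := 1) (by
        rw [Nat.card_zpowers, pow_one, orderOf_eq_prime (by rw [pow_two]; exact S.u_two) fun e => S.u_notin (by
          rw [e]; exact one_mem _)]))
      (zpowers_le.2 (mem_normalizer_iff.2 fun q => ⟨S.norm u S.u_comm q, fun h => by
        have := S.norm u S.u_comm _ h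
        rwa [huu] at this⟩))
    obtain ⟨k, hk⟩ := IsPGroup.iff_card.1 hD
    have hlt : 32 < Nat.card D := by
      rw [← S.card_Q]
      refine lt_of_le_of_ne (cle le_sup_left) fun e => S.u_notin ?_
      rw [eq_of_le_of_card_ge (le_sup_left : Q ≤ D) e.ge]
      exact mem_sup_right (mem_zpowers u)
    have h6 : 6 ≤ k := by
      by_contra hlt'
      rw [hk] at hlt
      have := Nat.pow_le_pow_right (show 2 > 0 by norm_num) (show k ≤ 5 by omega)
      omega
    refine (show 64 ∣ Nat.card D from hk ▸ (pow_dvd_pow 2 h6)).trans ?_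
    exact card_dvd_of_le (sup_le hQT (zpowers_le.2 huT))
  · have hgT : g ∈ closure ({x, g, u} : Set G) := subset_closure (by simp)
    have huT : u ∈ closure ({x, g, u} : Set G) := subset_closure (by simp)
    have hfix : Commute g' x := by
      have h := (show Commute g (u * x * u⁻¹) from hgQ2 _ (himg2 x hx)).map (MulAut.conj u).toMonoidHom
      simpa [MulAut.conj_apply, huu] using h
    set D := zpowers g ⊔ zpowers g'
    have hgg : g' ∉ zpowers g := fun hm => by
      obtain ⟨i, hi, e⟩ : ∃ i < 3, g ^ i = g' := by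
        obtain ⟨i, hi⟩ := mem_powers_iff_mem_zpowers.2 hm
        exact ⟨i % 3, Nat.mod_lt _ (by norm_num), (pow_eq_pow_mod i hg3).symm.trans hi⟩
      interval_cases i
      · have : u * g * u⁻¹ = 1 := by rw [pow_zero] at e; exact e.symm
        exact hg1' (by rwa [conj_eq_one_iff] at this)
      · rw [pow_one] at e
        rw [← e] at hfix
        exact hbx.1 (by rw [hb, hfix.eq, mul_inv_cancel_right])
      · rw [← e] at hfix
        have h4 := hfix.pow_left 2
        rw [← pow_mul, show 2 * 2 = 3 + 1 by norm_num, pow_add, hg3, one_mul, pow_one] at h4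
        exact hbx.1 (by rw [hb, h4.eq, mul_inv_cancel_right])
    have hD : IsPGroup 3 D := IsPGroup.to_sup_of_normal_left'
      (IsPGroup.of_card (n := 1) (by rw [Nat.card_zpowers, hord, pow_one]))
      (IsPGroup.of_card (n := 1) (by
        rw [Nat.card_zpowers, pow_one, show g' = MulAut.conj u g from rfl, MulEquiv.orderOf_eq, hord]))
      (zpowers_le.2 (Subgroup.centralizer_le_normalizer _ (mem_centralizer_iff.2 fun a ha => by
        obtain ⟨i, rfl⟩ := mem_zpowers_iff.1 ha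
        refine (Commute.zpow_left ?_ i).eq
        exact hgu)))
    obtain ⟨k, hk⟩ := IsPGroup.iff_card.1 hD
    have hlt : 3 < Nat.card D := by
      rw [← hord, ← Nat.card_zpowers]
      refine lt_of_le_of_ne (cle le_sup_left) fun e => hgg ?_
      rw [eq_of_le_of_card_ge (le_sup_left : zpowers g ≤ D) e.ge]
      exact mem_sup_right (mem_zpowers g')
    have h2 : 2 ≤ k := by
      by_contra hlt'
      rw [hk] at hlt
      have := Nat.pow_le_pow_right (show 3 > 0 by norm_num) (show k ≤ 1 by omega)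
      omega
    refine (show 9 ∣ Nat.card D from hk ▸ (pow_dvd_pow 3 h2)).trans ?_
    exact card_dvd_of_le (sup_le (zpowers_le.2 hgT) (zpowers_le.2 (mul_mem (mul_mem huT hgT) (inv_mem huT))))

/-- The group is `PSp₄(3)`. -/
theorem nonempty_iso (hG : ∀ K : Subgroup G, K.index ≠ 2) : Nonempty (G ≃* Cfsg.PSp 2 (ZMod 3)) := by
  obtain ⟨x, c, s, h⟩ := S.exists_shape
  exact h.nonempty_iso hG

end Swap

end Cfsg.Agent.S2918Id
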