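import Cfsg.Agent.Lib.S2918Id.PspShape
import Cfsg.Agent.Lib.RankOneW.NoTrivTools
import Cfsg.Agent.Lib.Solvable.Coprime

/-!
The centraliser `Q.(3² : 2)`, the involution exchanging the two quaternion factors of `Q`, has the shape
of the centraliser of a central involution of `PSp₄(3)`.
-/

set_option autoImplicit false
set_option linter.style.haveILetI false

namespace Cfsg.Agent.S2918Id

open Subgroup

variable {G : Type*} [Group G] [Finite G]

/-- The centraliser of `z` is `Q.(3² : 2)` and `u` swaps: all `q` with `[u, q]` in the centre square to one. -/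
structure Swap (z : G) (Q : Subgroup G) (u : G) : Prop where
  z_two : orderOf z = 2
  comm_z : ∀ q ∈ Q, q * z = z * q
  norm : ∀ g, g * z = z * g → ∀ q ∈ Q, g * q * g⁻¹ ∈ Q
  card_Q : Nat.card Q = 32
  z_mem : z ∈ Q
  center : ∀ c ∈ Q, (∀ q ∈ Q, q * c = c * q) → c = 1 ∨ c = z
  sq : ∀ q ∈ Q, q * q = 1 ∨ q * q = z
  comm : ∀ a ∈ Q, ∀ b ∈ Q, a * b = b * a ∨ a * b = b * a * z
  card_cent : Nat.card (centralizer ({z} : Set G)) = 576
  self : ∀ g, g * z = z * g → (∀ q ∈ Q, g * q = q * g) → g ∈ Q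
  u_two : u * u = 1
  u_comm : u * z = z * u
  u_notin : u ∉ Q
  sing : ∀ q ∈ Q, (u * q * u⁻¹ = q ∨ u * q * u⁻¹ = q * z) → q * q = 1

/-- The elements of `Q` fixed by `a`. -/
def fixQ (Q : Subgroup G) (a : G) : Subgroup G := Q ⊓ centralizer {a}

variable {z u : G} {Q : Subgroup G}

omit [Finite G] in
theorem mem_fixQ {a q : G} : q ∈ fixQ Q a ↔ q ∈ Q ∧ q * a = a * q := by
  rw [fixQ, mem_inf, mem_centralizer_singleton_iff]

omit [Finite G] in
theorem fixQ_le (a : G) : fixQ Q a ≤ Q := fun _ h => (mem_fixQ.1 h).1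

theorem cle {A B : Subgroup G} (h : A ≤ B) : Nat.card A ≤ Nat.card B :=
  Nat.le_of_dvd Nat.card_pos (card_dvd_of_le h)

namespace Swap

variable (S : Swap z Q u)
include S

theorem zz : z * z = 1 := by rw [← pow_two, ← S.z_two, pow_orderOf_eq_one]

theorem z_ne : z ≠ 1 := fun h => by have := S.z_two; rw [h, orderOf_one] at this; omega

theorem card_cases {R : Subgroup G} (hR : R ≤ Q) :
    Nat.card R = 1 ∨ Nat.card R = 2 ∨ Nat.card R = 4 ∨ Nat.card R = 8 ∨ Nat.card R = 16 ∨ Nat.card R = 32 := by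
  obtain ⟨k, hk, e⟩ := (Nat.dvd_prime_pow Nat.prime_two).1
    (show Nat.card R ∣ 2 ^ 5 by rw [show (2 : ℕ) ^ 5 = Nat.card Q by rw [S.card_Q]; norm_num]; exact card_dvd_of_le hR)
  interval_cases k <;> simp [e]

/-- An element of odd order centralising `Q` is trivial. -/
theorem eq_one_of_fix {g : G} (hg : g * z = z * g) (hodd : Odd (orderOf g)) (h : ∀ q ∈ Q, g * q = q * g) : g = 1 := by
  have h1 := Subgroup.orderOf_dvd_natCard Q (S.self g hg h)
  rw [S.card_Q, show 32 = 2 ^ 5 by norm_num] at h1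
  obtain ⟨k, -, hk⟩ := (Nat.dvd_prime_pow Nat.prime_two).1 h1
  rcases k with _ | k
  · rwa [pow_zero, orderOf_eq_one_iff] at hk
  · rw [hk, pow_succ, mul_comm] at hodd
    exact absurd hodd (Nat.not_odd_iff_even.2 (even_two_mul _))

/-- An element of order dividing nine has order dividing three. -/
theorem cube_eq_one {a : G} (ha : a * z = z * a) (h9 : a ^ 9 = 1) : a ^ 3 = 1 := by
  classical
  haveI : Fact (Nat.Prime 3) := ⟨Nat.prime_three⟩
  have hz3 : a ^ 3 * z = z * a ^ 3 := ((show Commute a z from ha).pow_left 3).eq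
  by_contra hne
  have hord : orderOf a = 9 := by
    have := orderOf_eq_prime_pow (p := 3) (n := 1) (by simpa using hne) (by simpa using h9)
    simpa using this
  set A := zpowers a
  set M : Set G := {q | q ∈ Q ∧ ¬ Commute (a ^ 3) q} with hM
  have hA : ∀ g ∈ A, g * z = z * g := fun g hg => by
    obtain ⟨i, rfl⟩ := mem_zpowers_iff.1 hg
    exact ((show Commute a z from ha).zpow_left i).eq
  have hc : ∀ g ∈ A, Commute g (a ^ 3) := fun g hg => by
    obtain ⟨i, rfl⟩ := mem_zpowers_iff.1 hg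
    exact ((Commute.refl a).zpow_left i).pow_right 3
  have hS : ∀ g ∈ A, ∀ x ∈ M, g * x * g⁻¹ ∈ M := fun g hg x hx => ⟨S.norm g (hA g hg) x hx.1, fun h => hx.2 (by
    have h2 : Commute (g⁻¹ * a ^ 3 * g) (g⁻¹ * (g * x * g⁻¹) * g) := by
      have := h.map (MulAut.conj g⁻¹).toMonoidHom
      simpa using this
    rwa [show g⁻¹ * (g * x * g⁻¹) * g = x by group, mul_assoc, ← (hc g hg).eq, inv_mul_cancel_left] at h2)⟩
  have hfree : ∀ g ∈ A, ∀ x ∈ M, g * x * g⁻¹ = x → g = 1 := by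
    intro g hg x hx hgx
    by_contra hg1
    apply hx.2
    have hcx : Commute g x := mul_inv_eq_iff_eq_mul.1 hgx
    obtain ⟨i, hi, rfl⟩ : ∃ i < 9, a ^ i = g := by
      obtain ⟨i, rfl⟩ := (mem_powers_iff_mem_zpowers.2 hg)
      exact ⟨i % 9, Nat.mod_lt _ (by norm_num), by rw [← hord, pow_mod_orderOf]⟩
    have key : ∀ m k : ℕ, i * m = 3 + 9 * k → Commute (a ^ 3) x := fun m k e => by
      have := hcx.pow_left m
      rwa [← pow_mul, e, pow_add, pow_mul, h9, one_pow, mul_one] at this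
    interval_cases i
    · exact absurd (pow_zero a) hg1
    · exact key 3 0 (by norm_num)
    · exact key 6 1 (by norm_num)
    · exact key 1 0 (by norm_num)
    · exact key 3 1 (by norm_num)
    · exact key 6 3 (by norm_num)
    · exact key 2 1 (by norm_num)
    · exact key 3 2 (by norm_num)
    · exact key 6 5 (by norm_num)
  have hdvd := RankOne.NoTriv.card_dvd_of_free hS hfree
  rw [Nat.card_zpowers, hord] at hdvd
  have hsplit : Nat.card M + Nat.card (fixQ Q (a ^ 3)) = 32 := by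
    have hu : (Q : Set G) = M ∪ (fixQ Q (a ^ 3) : Set G) := by
      ext q
      simp only [Set.mem_union, SetLike.mem_coe, mem_fixQ]
      constructor
      · intro hq
        by_cases h : Commute (a ^ 3) q
        · exact Or.inr ⟨hq, h.eq.symm⟩
        · exact Or.inl ⟨hq, h⟩
      · rintro (h | h) <;> exact h.1
    have hd : Disjoint M (fixQ Q (a ^ 3) : Set G) :=
      Set.disjoint_left.2 fun q h h' => h.2 (mem_fixQ.1 h').2.symm
    have e := Set.ncard_union_eq hd (Set.toFinite _) (Set.toFinite _)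
    rw [← hu, ← Nat.card_coe_set_eq, ← Nat.card_coe_set_eq, ← Nat.card_coe_set_eq] at e
    exact (e.symm.trans S.card_Q : Nat.card M + Nat.card (fixQ Q (a ^ 3)) = 32)
  obtain ⟨m, hm⟩ := hdvd
  rw [hm] at hsplit
  have h32 : Nat.card (fixQ Q (a ^ 3)) = 32 := by
    rcases S.card_cases (fixQ_le (a ^ 3)) with h | h | h | h | h | h <;> omega
  have hQ : fixQ Q (a ^ 3) = Q := eq_of_le_of_card_ge inf_le_left (by rw [h32, S.card_Q])
  refine hne (S.eq_one_of_fix hz3 ?_ fun q hq => ((mem_fixQ.1 (hQ.symm ▸ hq)).2).symm)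
  have := orderOf_dvd_of_pow_eq_one (show (a ^ 3) ^ 3 = 1 by rw [← pow_mul]; exact h9)
  exact Odd.of_dvd_nat (by decide) this

/-- The two quaternion factors and an element of order three on the first. -/
theorem exists_factors : ∃ Q₁ Q₂ : Subgroup G, ∃ c d : G, Q₁ ≤ Q ∧ Q₂ ≤ Q ∧ Nat.card Q₁ = 8 ∧ Nat.card Q₂ = 8 ∧
    (∀ p ∈ Q₁, p ∈ Q₂ → p = 1 ∨ p = z) ∧ z ∈ Q₁ ∧ z ∈ Q₂ ∧
    (∀ p ∈ Q₁, ∀ q ∈ Q₂, p * q = q * p) ∧ (∀ x ∈ Q, ∃ p ∈ Q₁, ∃ q ∈ Q₂, p * q = x) ∧
    c * z = z * c ∧ c ^ 3 = 1 ∧ (∀ q ∈ Q₂, c * q = q * c) ∧ (∀ p ∈ Q₁, c * p * c⁻¹ ∈ Q₁) ∧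
    (∀ p ∈ Q₁, c * p = p * c → p = 1 ∨ p = z) ∧
    d * z = z * d ∧ d ^ 3 = 1 ∧ (∀ q ∈ Q₂, d * q * d⁻¹ ∈ Q₂) ∧ (∀ q ∈ Q₂, d * q = q * d → q = 1 ∨ q = z) := by
  classical
  haveI : Fact (Nat.Prime 3) := ⟨Nat.prime_three⟩
  set L := centralizer ({z} : Set G) with hL
  obtain ⟨X₀, hX₀⟩ := Sylow.exists_subgroup_card_pow_prime 3 (G := L) (n := 2) (by
    rw [S.card_cent]; norm_num)
  set X := X₀.map L.subtype
  have hX : Nat.card X = 9 := by rw [card_map_of_injective L.subtype_injective, hX₀]; norm_num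
  have hXz : ∀ g ∈ X, g * z = z * g := fun g hg => mem_centralizer_singleton_iff.1 (map_subtype_le _ hg)
  have hX9 : ∀ g ∈ X, g ^ 9 = 1 := fun g hg => by
    have := pow_card_eq_one' (x := (⟨g, hg⟩ : X))
    rw [hX] at this
    exact congrArg Subtype.val this
  have hX3 : ∀ g ∈ X, g ^ 3 = 1 := fun g hg => S.cube_eq_one (hXz g hg) (hX9 g hg)
  haveI hcommX : IsMulCommutative X := IsMulCommutative.of_comm
    (IsPGroup.commutative_of_card_eq_prime_sq (p := 3) (by rw [hX]; norm_num))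
  have hXc : ∀ g ∈ X, ∀ h ∈ X, g * h = h * g := fun g hg h hh =>
    congrArg Subtype.val (mul_comm' (⟨g, hg⟩ : X) ⟨h, hh⟩)
  have hXp : IsPGroup 3 X := IsPGroup.of_card (n := 2) (by rw [hX]; norm_num)
  have hncyc : ¬ IsCyclic X := fun h => by
    obtain ⟨g, hg⟩ := h.exists_ofOrder_eq_natCard
    rw [hX, ← Subgroup.orderOf_coe] at hg
    have := orderOf_dvd_of_pow_eq_one (hX3 g g.2)
    rw [hg] at this
    norm_num at this
  set C₀ := Q ⊓ centralizer (X : Set G) with hC₀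
  have hC₀Q' : C₀ ≤ Q := fun q hq => hq.1
  have hzC₀ : z ∈ C₀ := ⟨S.z_mem, mem_centralizer_iff.2 fun g hg => hXz g hg⟩
  have hC₀le : ∀ a ∈ X, C₀ ≤ fixQ Q a := fun a ha q hq =>
    mem_fixQ.2 ⟨hq.1, (mem_centralizer_iff.1 hq.2 a ha).symm⟩
  -- fixed points are congruent
  have hinv : ∀ a ∈ X, ∀ g ∈ X, ∀ q ∈ fixQ Q a, g * q * g⁻¹ ∈ fixQ Q a := fun a ha g hg q hq => by
    obtain ⟨hqQ, hqa⟩ := mem_fixQ.1 hq
    refine mem_fixQ.2 ⟨S.norm g (hXz g hg) q hqQ, ?_⟩
    have hga : Commute g a := hXc g hg a ha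
    have hq' : Commute q a := hqa
    exact ((hga.mul_left hq').mul_left hga.inv_left).eq
  have hmod : ∀ a ∈ X, Nat.card (fixQ Q a) ≡ Nat.card C₀ [MOD 3] := fun a ha => by
    refine (RankOne.NoTriv.card_fixed_modEq hXp (S := (fixQ Q a : Set G)) fun g hg q hq => hinv a ha g hg q hq).trans ?_
    rw [show Nat.card {x : G | x ∈ (fixQ Q a : Set G) ∧ ∀ g ∈ X, g * x * g⁻¹ = x} = Nat.card C₀ from ?_]
    refine Nat.card_congr (Equiv.subtypeEquivRight fun q => ⟨fun h => ⟨h.1.1, mem_centralizer_iff.2 fun g hg =>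
      mul_inv_eq_iff_eq_mul.1 (h.2 g hg)⟩, fun h => ⟨hC₀le a ha h, fun g hg => ?_⟩⟩)
    rw [mem_centralizer_iff.1 h.2 g hg, mul_inv_cancel_right]
  have hproper : ∀ a ∈ X, a ≠ 1 → Nat.card (fixQ Q a) ≠ 32 := fun a ha ha1 h => ha1 (by
    have hQ : fixQ Q a = Q := eq_of_le_of_card_ge inf_le_left (by rw [h, S.card_Q])
    refine S.eq_one_of_fix (hXz a ha) (Odd.of_dvd_nat (by decide : Odd 3) (orderOf_dvd_of_pow_eq_one (hX3 a ha)))
      fun q hq => ((mem_fixQ.1 (hQ.symm ▸ hq)).2).symm)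
  have hgen := CoprimeAct.generated_by_centralizers (A := X) (K := Q) hncyc (fun g hg => mem_normalizer_iff.2 fun q =>
      ⟨fun hq => S.norm g (hXz g hg) q hq, fun hq => by
        have := S.norm g⁻¹ (hXz _ (inv_mem hg)) _ hq
        simpa [mul_assoc] using this⟩) (by rw [hX, S.card_Q]; norm_num)
  have hnotall : ∀ R : Subgroup G, (∀ a ∈ X, a ≠ 1 → fixQ Q a ≤ R) → Q ≤ R := fun R h =>
    hgen.ge.trans (iSup₂_le fun a ha => h a ha.1 ha.2)
  have hC₀Q : Nat.card C₀ ≠ 32 := fun h => by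
    obtain ⟨g, hg, hg1⟩ : ∃ g ∈ X, g ≠ 1 := by
      by_contra hcon
      push Not at hcon
      rw [(eq_bot_iff_forall X).2 hcon, card_bot] at hX
      omega
    have := card_dvd_of_le (hC₀le g hg)
    rw [h] at this
    rcases S.card_cases (fixQ_le g) with e | e | e | e | e | e <;> rw [e] at this <;>
      first | exact hproper g hg hg1 e | omega
  obtain ⟨a, ha, ha1, haC⟩ : ∃ a ∈ X, a ≠ 1 ∧ fixQ Q a ≠ C₀ := by
    by_contra hcon
    push Not at hcon
    exact hC₀Q (le_antisymm ((cle hC₀Q').trans S.card_Q.le) (by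
      rw [← S.card_Q]; exact cle (hnotall C₀ fun a ha ha1 => (hcon a ha ha1).le)))
  obtain ⟨b, hb, hb1, hba⟩ : ∃ b ∈ X, b ≠ 1 ∧ ¬ fixQ Q b ≤ fixQ Q a := by
    by_contra hcon
    push Not at hcon
    have h1 := cle (hnotall _ hcon)
    rw [S.card_Q] at h1
    rcases S.card_cases (fixQ_le a) with e | e | e | e | e | e <;>
      first | exact hproper a ha ha1 e | omega
  have hbC : fixQ Q b ≠ C₀ := fun h => hba (h ▸ hC₀le a ha)
  have hbnot : b ∉ zpowers a := fun h => hba fun q hq => by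
    obtain ⟨hqQ, hqb⟩ := mem_fixQ.1 hq
    refine mem_fixQ.2 ⟨hqQ, ?_⟩
    have h3 := hX3 a ha
    obtain ⟨i, hi, rfl⟩ : ∃ i < 3, a ^ i = b := by
      obtain ⟨i, rfl⟩ := mem_powers_iff_mem_zpowers.2 h
      exact ⟨i % 3, Nat.mod_lt _ (by norm_num), (pow_eq_pow_mod i h3).symm⟩
    interval_cases i
    · exact absurd (pow_zero a) hb1
    · simpa using hqb
    · have := (show Commute q (a ^ 2) from hqb).pow_right 2
      rwa [← pow_mul, show 2 * 2 = 3 + 1 by norm_num, pow_add, h3, one_mul, pow_one] at this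
  have hsup : zpowers a ⊔ zpowers b = X := by
    refine eq_of_le_of_card_ge (sup_le (zpowers_le.2 ha) (zpowers_le.2 hb)) ?_
    obtain ⟨k, hk, e⟩ := (Nat.dvd_prime_pow Nat.prime_three).1
      (show Nat.card (zpowers a ⊔ zpowers b : Subgroup G) ∣ 3 ^ 2 by
        rw [show (3 : ℕ) ^ 2 = Nat.card X by rw [hX]; norm_num]
        exact card_dvd_of_le (sup_le (zpowers_le.2 ha) (zpowers_le.2 hb)))
    have hlt : Nat.card (zpowers a) < Nat.card (zpowers a ⊔ zpowers b : Subgroup G) :=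
      lt_of_le_of_ne (cle le_sup_left) fun e => hbnot (by
        rw [eq_of_le_of_card_ge (le_sup_left : zpowers a ≤ zpowers a ⊔ zpowers b) e.ge]
        exact mem_sup_right (mem_zpowers b))
    rw [Nat.card_zpowers, orderOf_eq_prime (hX3 a ha) ha1, e] at hlt
    rw [hX, e]
    interval_cases k <;> first | omega | (norm_num at hlt) | norm_num
  have hinf : fixQ Q a ⊓ fixQ Q b ≤ C₀ := fun q hq => by
    obtain ⟨hqQ, hqa⟩ := mem_fixQ.1 hq.1
    refine ⟨hqQ, ?_⟩
    have h : X ≤ centralizer ({q} : Set G) := hsup ▸ sup_le (zpowers_le.2 (mem_centralizer_singleton_iff.2 hqa.symm))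
      (zpowers_le.2 (mem_centralizer_singleton_iff.2 (mem_fixQ.1 hq.2).2.symm))
    exact mem_centralizer_iff.2 fun g hg => mem_centralizer_singleton_iff.1 (h hg)
  -- the product
  set fs : Subgroup G → Finset G := fun R => (Set.toFinite (R : Set G)).toFinset
  have hfs : ∀ {R : Subgroup G} {g : G}, g ∈ fs R ↔ g ∈ R := fun {R g} => by simp [fs]
  have hfsc : ∀ R : Subgroup G, (fs R).card = Nat.card R := fun R => by
    rw [← Set.ncard_eq_toFinset_card _ (Set.toFinite _)]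
    exact (Nat.card_coe_set_eq _).symm
  set P := (fs (fixQ Q a) ×ˢ fs (fixQ Q b)).image fun p => p.1 * p.2
  have hPQ : P ⊆ fs Q := fun g hg => by
    obtain ⟨⟨p, q⟩, hpq, rfl⟩ := Finset.mem_image.1 hg
    rw [Finset.mem_product, hfs, hfs] at hpq
    exact hfs.2 (mul_mem hpq.1.1 hpq.2.1)
  have hfib : Nat.card (fixQ Q a) * Nat.card (fixQ Q b) ≤ Nat.card C₀ * P.card := by
    rw [← hfsc, ← hfsc, ← hfsc C₀, ← Finset.card_product]
    refine Finset.card_le_mul_card_image _ _ fun g hg => ?_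
    obtain ⟨⟨p0, q0⟩, hpq0, rfl⟩ := Finset.mem_image.1 hg
    rw [Finset.mem_product, hfs, hfs] at hpq0
    refine Finset.card_le_card_of_injOn (fun p => p0⁻¹ * p.1) (fun p hp => ?_) fun p hp p' hp' e => ?_
    · simp only [Finset.coe_filter, Set.mem_setOf_eq, Finset.mem_product, hfs] at hp
      refine Finset.mem_coe.2 (hfs.2 (hinf (mem_inf.2 ⟨mul_mem (inv_mem hpq0.1) hp.1.1, ?_⟩)))
      show p0⁻¹ * p.1 ∈ fixQ Q b
      rw [show p0⁻¹ * p.1 = q0 * p.2⁻¹ by
        calc p0⁻¹ * p.1 = p0⁻¹ * (p.1 * p.2) * p.2⁻¹ := by group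
          _ = _ := by rw [hp.2]; group]
      exact mul_mem hpq0.2 (inv_mem hp.1.2)
    · simp only [Finset.coe_filter, Set.mem_setOf_eq] at hp hp'
      have e1 : p.1 = p'.1 := mul_left_cancel e
      refine Prod.ext e1 ?_
      have h2 := hp.2.trans hp'.2.symm
      rw [e1] at h2
      exact mul_left_cancel h2
  have hP32 : P.card ≤ 32 := by rw [← S.card_Q, ← hfsc]; exact Finset.card_le_card hPQ
  have hge : ∀ g ∈ X, fixQ Q g ≠ C₀ → Nat.card C₀ < Nat.card (fixQ Q g) := fun g hg h =>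
    lt_of_le_of_ne (cle (hC₀le g hg)) fun e => h (eq_of_le_of_card_ge (hC₀le g hg) e.ge).symm
  have hc2 : 2 ≤ Nat.card C₀ := by
    have := Subgroup.orderOf_dvd_natCard C₀ hzC₀
    rw [S.z_two] at this
    exact Nat.le_of_dvd Nat.card_pos this
  obtain ⟨hcC, hcA, hcB⟩ : Nat.card C₀ = 2 ∧ Nat.card (fixQ Q a) = 8 ∧ Nat.card (fixQ Q b) = 8 := by
    have h1 := hge a ha haC
    have h2 := hge b hb hbC
    have h3 : Nat.card C₀ * P.card ≤ Nat.card C₀ * 32 := Nat.mul_le_mul_left _ hP32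
    have m1 := hmod a ha
    have m2 := hmod b hb
    have n1 := hproper a ha ha1
    have n2 := hproper b hb hb1
    rcases S.card_cases hC₀Q' with e | e | e | e | e | e <;>
      rcases S.card_cases (fixQ_le a) with f | f | f | f | f | f <;>
      rcases S.card_cases (fixQ_le b) with g | g | g | g | g | g <;>
      simp only [e, f, g, Nat.ModEq] at h1 h2 h3 m1 m2 n1 n2 hfib hc2 ⊢ <;> first | omega | exact ⟨trivial, trivial, trivial⟩
  have hC0 : ∀ q ∈ C₀, q = 1 ∨ q = z := fun q hq => by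
    have hle : zpowers z ≤ C₀ := zpowers_le.2 hzC₀
    rw [← eq_of_le_of_card_ge hle (by rw [hcC, Nat.card_zpowers, S.z_two])] at hq
    obtain ⟨i, hi, rfl⟩ : ∃ i < 2, z ^ i = q := by
      obtain ⟨i, rfl⟩ := mem_powers_iff_mem_zpowers.2 hq
      exact ⟨i % 2, Nat.mod_lt _ (by norm_num), (pow_eq_pow_mod i (by rw [pow_two]; exact S.zz)).symm⟩
    interval_cases i <;> simp
  have hPeq : P = fs Q := Finset.eq_of_subset_of_card_le hPQ (by
    rw [hfsc, S.card_Q]
    rw [hcA, hcB, hcC] at hfib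
    omega)
  refine ⟨fixQ Q a, fixQ Q b, b, a, inf_le_left, inf_le_left, hcA, hcB, fun p hp hp' => hC0 p (hinf ⟨hp, hp'⟩),
    hC₀le a ha hzC₀, hC₀le b hb hzC₀, ?_, fun x hx => ?_, hXz b hb, hX3 b hb,
    fun q hq => (mem_fixQ.1 hq).2.symm, hinv a ha b hb, fun p hp h => hC0 p (hinf ⟨hp, mem_fixQ.2 ⟨hp.1, h.symm⟩⟩),
    hXz a ha, hX3 a ha, hinv b hb a ha, fun q hq h => hC0 q (hinf ⟨mem_fixQ.2 ⟨hq.1, h.symm⟩, hq⟩)⟩
  · -- the factors commute
    intro p hp q hq
    set T := fixQ Q b ⊓ centralizer ({p} : Set G) with hT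
    have hpQ := (mem_fixQ.1 hp).1
    have hd : ∀ r ∈ fixQ Q b, r⁻¹ * (a * r * a⁻¹) ∈ T := fun r hr => by
      have hr' := hinv b hb a ha r hr
      refine mem_inf.2 ⟨mul_mem (inv_mem hr) hr', mem_centralizer_singleton_iff.2 ?_⟩
      have hpa : a * p * a⁻¹ = p := by rw [← (mem_fixQ.1 hp).2, mul_inv_cancel_right]
      have hzc : ∀ g ∈ Q, Commute g z := S.comm_z
      rcases S.comm p hpQ r hr.1 with h | h
      · have h' : Commute p (a * r * a⁻¹) := by
          have := (show Commute p r from h).map (MulAut.conj a).toMonoidHom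
          simpa [hpa] using this
        exact ((show Commute p r from h).inv_right.mul_right h').symm.eq
      · have h' : p * (a * r * a⁻¹) = a * r * a⁻¹ * p * z := by
          calc p * (a * r * a⁻¹) = a * p * a⁻¹ * (a * r * a⁻¹) := by rw [hpa]
            _ = a * (p * r) * a⁻¹ := by group
            _ = a * (r * p) * (z * a⁻¹) := by rw [h]; group
            _ = a * r * a⁻¹ * (a * p * a⁻¹) * z := by
              rw [← ((show Commute a z from hXz a ha).inv_left).eq]; group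
            _ = _ := by rw [hpa]
        calc r⁻¹ * (a * r * a⁻¹) * p = r⁻¹ * (a * r * a⁻¹ * p * z) * z⁻¹ := by group
          _ = r⁻¹ * p * (a * r * a⁻¹) * z⁻¹ := by rw [← h']; group
          _ = r⁻¹ * (p * r) * r⁻¹ * (a * r * a⁻¹) * z⁻¹ := by group
          _ = p * (z * (r⁻¹ * (a * r * a⁻¹))) * z⁻¹ := by rw [h]; group
          _ = p * (r⁻¹ * (a * r * a⁻¹)) := by
            rw [← (hzc _ (mul_mem (inv_mem hr.1) hr'.1)).eq]; group
    have hzT : z ∈ T := ⟨hC₀le b hb hzC₀, mem_centralizer_singleton_iff.2 (S.comm_z p hpQ).symm⟩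
    suffices hTtop : T = fixQ Q b by
      have := hTtop.symm ▸ hq
      exact (mem_centralizer_singleton_iff.1 this.2).symm
    refine eq_of_le_of_card_ge inf_le_left ?_
    rw [hcB]
    set D := (fs (fixQ Q b)).image fun r => r⁻¹ * (a * r * a⁻¹)
    have hD4 : 4 ≤ D.card := by
      have h := Finset.card_le_mul_card_image (s := fs (fixQ Q b)) (f := fun r => r⁻¹ * (a * r * a⁻¹)) 2 fun d hd => ?_
      · rw [hfsc, hcB] at h
        have h' : 8 ≤ 2 * D.card := by convert h using 4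
        omega
      obtain ⟨r0, hr0, rfl⟩ := Finset.mem_image.1 hd
      rw [← hcC, ← hfsc C₀]
      refine Finset.card_le_card_of_injOn (fun r => r * r0⁻¹) (fun r hr => ?_) fun r _ r' _ e => mul_right_cancel e
      simp only [Finset.coe_filter, Set.mem_setOf_eq, hfs] at hr
      refine Finset.mem_coe.2 (hfs.2 (hinf (mem_inf.2 ⟨mem_fixQ.2 ⟨mul_mem hr.1.1 (inv_mem (hfs.1 hr0).1), ?_⟩,
        mul_mem hr.1 (inv_mem (hfs.1 hr0))⟩)))
      calc r * r0⁻¹ * a = r * (r0⁻¹ * (a * r0 * a⁻¹)) * (a * r0⁻¹) := by group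
        _ = r * (r⁻¹ * (a * r * a⁻¹)) * (a * r0⁻¹) := by rw [hr.2]
        _ = a * (r * r0⁻¹) := by group
    have hzD : z ∉ D := fun h => by
      obtain ⟨r, hr, hre⟩ := Finset.mem_image.1 h
      have hr' := (hfs.1 hr).1
      have h1 : a * r * a⁻¹ = r * z := by rw [← hre]; group
      have hz' : a * z * a⁻¹ = z := by rw [hXz a ha, mul_inv_cancel_right]
      have h3 : r = r * z := by
        calc r = a * a * a * r * (a * a * a)⁻¹ := by rw [← pow_two, ← pow_succ, hX3 a ha]; group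
          _ = a * (a * (a * r * a⁻¹) * a⁻¹) * a⁻¹ := by group
          _ = a * (a * (r * z) * a⁻¹) * a⁻¹ := congrArg (fun y => a * (a * y * a⁻¹) * a⁻¹) h1
          _ = a * ((a * r * a⁻¹) * (a * z * a⁻¹)) * a⁻¹ := by group
          _ = a * (r * (z * z)) * a⁻¹ := by rw [h1, hz', mul_assoc r z z]
          _ = r * z := by rw [S.zz, mul_one, h1]
      exact S.z_ne (mul_left_cancel (h3.symm.trans (mul_one r).symm))
    have hsub : insert z D ⊆ fs T := Finset.insert_subset (hfs.2 hzT) fun d hd' => by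
      obtain ⟨r, hr, rfl⟩ := Finset.mem_image.1 hd'
      exact hfs.2 (hd r (hfs.1 hr))
    have h5 := Finset.card_le_card hsub
    rw [Finset.card_insert_of_notMem hzD, hfsc] at h5
    rcases S.card_cases (show T ≤ Q from inf_le_left.trans inf_le_left) with e | e | e | e | e | e <;> omega
  · have := hfs.2 hx
    rw [← hPeq] at this
    obtain ⟨⟨p, q⟩, hpq, rfl⟩ := Finset.mem_image.1 this
    rw [Finset.mem_product, hfs, hfs] at hpq
    exact ⟨p, hpq.1, q, hpq.2, rfl⟩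

end Swap

end Cfsg.Agent.S2918Id
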