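import Cfsg.Agent.Lib.PspInv.Main
import Cfsg.Agent.Lib.NearField.SL23
import Cfsg.Agent.Lib.U43T.SL

/-!
`PSp₄(3)` from generators of the centraliser of an involution: `x`, `c` generating a copy of `SL₂(3)` and an
involution `s` carrying it to a copy commuting with it.
-/

set_option autoImplicit false
set_option linter.style.haveILetI false

namespace Cfsg.Agent.S2918Id

open Cfsg.Agent.PspInv
open Cfsg.Agent.Hayden (slm)

theorem slm_three_unique : ∀ g : SL3, g * g = 1 → g ≠ 1 → g = slm 3 := by decide +kernel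

variable {G : Type*} [Group G] [Finite G]

/-- A group of order `n` divisible by a prime power is large. -/
theorem le_card_of_dvd {H : Subgroup G} {n m : ℕ} (hn : n ∣ Nat.card H) (hm : m ∣ Nat.card H) (h : n.Coprime m) :
    n * m ≤ Nat.card H :=
  Nat.le_of_dvd Nat.card_pos (h.mul_dvd_of_dvd_of_dvd hn hm)

/-- The shape of the centraliser: `x`, `c` satisfy the relations of `SL₂(3)`, `s` conjugates them to commuting ones. -/
structure Shape (z x c s : G) : Prop where
  z_two : orderOf z = 2
  sq_x : x * x = z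
  x_four : x ^ 4 = 1
  c_three : c ^ 3 = 1
  rel₁ : x * (c * x * c⁻¹) * x = c * x * c⁻¹
  rel₂ : c * (c * x * c⁻¹) * c⁻¹ = x * (c * x * c⁻¹)
  sl_card : 24 ≤ Nat.card (Subgroup.closure ({x, c} : Set G))
  s_sq : s * s = 1
  comm : ∀ a ∈ ({x, c} : Set G), ∀ b ∈ ({x, c} : Set G), Commute a (s * b * s⁻¹)
  card : Nat.card (Subgroup.centralizer ({z} : Set G)) = 576
  x_mem : x * z = z * x
  c_mem : c * z = z * c
  s_mem : s * z = z * s
  two_part : 64 ∣ Nat.card (Subgroup.closure ({x, c, s} : Set G))
  three_part : 9 ∣ Nat.card (Subgroup.closure ({x, c, s} : Set G))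

theorem Shape.nonempty_iso {z x c s : G} (S : Shape z x c s) (hG : ∀ K : Subgroup G, K.index ≠ 2) :
    Nonempty (G ≃* Cfsg.PSp 2 (ZMod 3)) := by
  classical
  obtain ⟨φ0', hinj, hr, -⟩ := NearField.exists_embed x c S.x_four S.c_three S.rel₁ S.rel₂ S.sl_card
  obtain ⟨e⟩ := NearField.equiv_sl23
  let φ : SL3 →* G := φ0'.comp e.symm.toMonoidHom
  have hφi : Function.Injective φ := hinj.comp e.symm.injective
  have hφr : φ.range = Subgroup.closure {x, c} := by
    rw [← hr]
    ext g
    exact ⟨fun ⟨a, ha⟩ => ⟨e.symm a, ha⟩, fun ⟨a, ha⟩ => ⟨e a, (congrArg φ0' (e.symm_apply_apply a)).trans ha⟩⟩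
  have hφm : ∀ g, φ g ∈ Subgroup.closure ({x, c} : Set G) := fun g => hφr ▸ ⟨g, rfl⟩
  obtain ⟨gx, hgx⟩ : x ∈ φ.range := hφr ▸ Subgroup.subset_closure (Set.mem_insert _ _)
  have hz : φ (slm 3) = z := by
    have hzz : z * z = 1 := by rw [← pow_two, ← S.z_two, pow_orderOf_eq_one]
    have hz1 : z ≠ 1 := fun h => by have := S.z_two; rw [h, orderOf_one] at this; omega
    have hg : φ (gx * gx) = z := by rw [map_mul, hgx, S.sq_x]
    rw [← hg]
    refine congrArg φ (slm_three_unique _ (hφi ?_) fun h => hz1 ?_).symm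
    · rw [map_mul, hg, hzz, map_one]
    · rw [← hg, h, map_one]
  have hcomm : ∀ g h, Commute (φ g) (s * φ h * s⁻¹) := by
    have key : ∀ {a : G}, a ∈ Subgroup.closure ({x, c} : Set G) → ∀ {b : G}, b ∈ Subgroup.closure ({x, c} : Set G) →
        Commute a (s * b * s⁻¹) := by
      intro a ha
      induction ha using Subgroup.closure_induction with
      | mem a ha =>
        intro b hb
        induction hb using Subgroup.closure_induction with
        | mem b hb => exact S.comm a ha b hb
        | one => simp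
        | mul b b' _ _ h h' =>
          rw [show s * (b * b') * s⁻¹ = s * b * s⁻¹ * (s * b' * s⁻¹) by group]
          exact h.mul_right h'
        | inv b _ h =>
          rw [show s * b⁻¹ * s⁻¹ = (s * b * s⁻¹)⁻¹ by group]
          exact h.inv_right
      | one => exact fun _ => Commute.one_left _
      | mul a a' _ _ h h' => exact fun hb => (h hb).mul_left (h' hb)
      | inv a _ h => exact fun hb => (h hb).inv_left
    exact fun g h => key (hφm g) (hφm h)
  have P : Pre φ s := ⟨hcomm, S.s_sq, by
    rw [hz, S.s_mem, mul_inv_cancel_right, ← pow_two, ← S.z_two, pow_orderOf_eq_one]⟩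
  set L := Subgroup.centralizer ({z} : Set G)
  set K := Subgroup.closure ({x, c, s} : Set G)
  have hKL : K ≤ L := (Subgroup.closure_le _).2 (by
    rintro a (rfl | rfl | rfl)
    exacts [Subgroup.mem_centralizer_singleton_iff.2 S.x_mem, Subgroup.mem_centralizer_singleton_iff.2 S.c_mem,
      Subgroup.mem_centralizer_singleton_iff.2 S.s_mem])
  have hKeq : K = L := Subgroup.eq_of_le_of_card_ge hKL (by
    rw [S.card, show 576 = 64 * 9 by norm_num]
    exact le_card_of_dvd S.two_part S.three_part (by norm_num))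
  -- the coordinates exhaust the generated group
  have hel : ∀ g, g * z = z * g → ∃ i < 576, el φ s i = g := by
    intro g hg
    have hgK : g ∈ K := hKeq ▸ Subgroup.mem_centralizer_singleton_iff.2 hg
    clear hg
    have hφel : ∀ a : SL3, ∀ e < 2, ∃ i < 576, el φ s i = φ a * s ^ e := fun a e he => by
      obtain ⟨k, hk, rfl⟩ := slm_surj a
      obtain ⟨h1, -, -⟩ := enc_spec he hk (show 0 < 24 by norm_num)
      refine ⟨_, h1, ?_⟩
      rw [P.el_enc he hk (by norm_num), slm_special.1, map_one, mul_one, mul_inv_cancel, mul_one]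
    obtain ⟨gc, hgc⟩ : c ∈ φ.range := hφr ▸ Subgroup.subset_closure (Set.mem_insert_of_mem _ rfl)
    have h0 : ∃ i < 576, el φ s i = (1 : G) := by simpa using hφel 1 0 (by norm_num)
    induction hgK using Subgroup.closure_induction_left with
    | one => exact h0
    | mul_left a ha y _ ih =>
      obtain ⟨j, hj, rfl⟩ := ih
      obtain ⟨i, hi, he⟩ : ∃ i < 576, el φ s i = a := by
        rcases ha with rfl | rfl | rfl
        · simpa [hgx] using hφel gx 0 (by norm_num)
        · simpa [hgc] using hφel gc 0 (by norm_num)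
        · simpa using hφel 1 1 (by norm_num)
      exact ⟨T i j, P.T_lt hi hj, by rw [← he, P.el_mul hi hj]⟩
    | inv_mul_cancel a ha y _ ih =>
      obtain ⟨j, hj, rfl⟩ := ih
      obtain ⟨i, hi, he⟩ : ∃ i < 576, el φ s i = a⁻¹ := by
        rcases ha with rfl | rfl | rfl
        · simpa [hgx] using hφel gx⁻¹ 0 (by norm_num)
        · simpa [hgc] using hφel gc⁻¹ 0 (by norm_num)
        · simpa [inv_eq_of_mul_eq_one_right S.s_sq] using hφel 1 1 (by norm_num)
      exact ⟨T i j, P.T_lt hi hj, by rw [← he, P.el_mul hi hj]⟩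
  have H : Hyp φ s := ⟨P, fun g hg => hel g (by rwa [hz] at hg), by rw [hz]; exact S.card⟩
  obtain ⟨s', C⟩ := H.exists_conf hG
  exact C.nonempty_iso

end Cfsg.Agent.S2918Id
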